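import Mathlib

universe u v

namespace Groth.Agent.GraphCycle

variable {V : Type u} [Fintype V] [DecidableEq V] {A : Type v} [AddCommGroup A]

/-- sign of a colouring -/
def eps (c : V → Bool) (v : V) : ℤ := if c v then 1 else -1

lemma eps_mul_self (c : V → Bool) (v : V) : eps c v * eps c v = 1 := by
  unfold eps; split <;> rfl

lemma eps_adj {c : V → Bool} {v w : V} (h : c v ≠ c w) : eps c w = - eps c v := by
  unfold eps; revert h; cases c v <;> cases c w <;> simp

/-- signed boundary -/
def bd (c : V → Bool) : (Sym2 V → A) →+ (V → A) where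
  toFun x v := eps c v • ∑ e : Sym2 V, if v ∈ e then x e else 0
  map_zero' := by funext v; simp
  map_add' x y := by
    funext v
    simp only [Pi.add_apply, ← smul_add, ← Finset.sum_add_distrib]
    congr 1; apply Finset.sum_congr rfl; intro e _; split <;> simp

lemma bd_apply (c : V → Bool) (x : Sym2 V → A) (v : V) :
    bd c x v = eps c v • ∑ e : Sym2 V, if v ∈ e then x e else 0 := rfl

lemma bd_single (c : V → Bool) (u w : V) (hne : u ≠ w) (a : A) :
    bd c (Pi.single s(u, w) a) = Pi.single u (eps c u • a) + Pi.single w (eps c w • a) := by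
  funext v
  rw [bd_apply, Finset.sum_eq_single s(u, w)]
  · by_cases h1 : v = u
    · subst h1; simp [Pi.single_eq_of_ne hne]
    · by_cases h2 : v = w
      · subst h2; simp [h1]
      · simp [h1, h2]
  · intro e _ he; simp [Pi.single_eq_of_ne he]
  · simp

/-- chain along a walk -/
lemma walk_chain (G : SimpleGraph V) {c : V → Bool} (hbip : ∀ v w : V, G.Adj v w → c v ≠ c w)
    {s t : V} (p : G.Walk s t) :
    ∃ φ : A →+ (Sym2 V → A), (∀ a e, e ∉ p.edges → φ a e = 0) ∧
      ∀ a, bd c (φ a) = Pi.single s a - Pi.single t a := by
  induction p with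
  | nil => exact ⟨0, by simp, by simp⟩
  | @cons u w t h q ih =>
    obtain ⟨φ, h1, h2⟩ := ih
    refine ⟨(AddMonoidHom.single (fun _ : Sym2 V => A) s(u, w)).comp
      (DistribSMul.toAddMonoidHom A (eps c u)) + φ, ?_, ?_⟩
    · intro a e he
      simp only [SimpleGraph.Walk.edges_cons, List.mem_cons, not_or] at he
      simp [Pi.single_eq_of_ne he.1, h1 a e he.2]
    · intro a
      simp only [AddMonoidHom.add_apply, AddMonoidHom.coe_comp, Function.comp_apply,
        DistribSMul.toAddMonoidHom_apply, AddMonoidHom.single_apply, map_add, h2,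
        bd_single c u w h.ne, smul_smul, eps_mul_self, eps_adj (hbip u w h), neg_mul, one_smul, neg_smul,
        Pi.single_neg]
      abel

lemma sum_incidence (G : SimpleGraph V) [DecidableRel G.Adj] (c : V → Bool) (x : Sym2 V → A)
    (hx : ∀ e, e ∉ G.edgeSet → x e = 0) (v : V) :
    eps c v • ∑ e ∈ G.incidenceFinset v, x e = bd c x v := by
  rw [bd_apply, ← Finset.sum_filter]
  congr 1
  refine Finset.sum_subset ?_ ?_
  · intro e he
    simp only [SimpleGraph.mem_incidenceFinset] at he
    simpa using he.2
  · intro e he he'
    simp only [Finset.mem_filter, Finset.mem_univ, true_and] at he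
    simp only [SimpleGraph.mem_incidenceFinset] at he'
    exact hx e fun h => he' ⟨h, he⟩

lemma sum_incidence_eq (G : SimpleGraph V) [DecidableRel G.Adj] (c : V → Bool) (x : Sym2 V → A)
    (hx : ∀ e, e ∉ G.edgeSet → x e = 0) (v : V) :
    ∑ e ∈ G.incidenceFinset v, x e = eps c v • bd c x v := by
  rw [← sum_incidence G c x hx v, smul_smul, eps_mul_self, one_smul]

/-- a flow supported on a forest is zero -/
lemma eq_zero_of_acyclic (T : SimpleGraph V) {c : V → Bool}
    (hbip : ∀ v w : V, T.Adj v w → c v ≠ c w) (hac : T.IsAcyclic) (x : Sym2 V → A)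
    (hx : ∀ e, e ∉ T.edgeSet → x e = 0) (h0 : bd c x = 0) : x = 0 := by
  classical
  funext e₀
  induction e₀ using Sym2.ind with
  | h u w =>
    by_cases he : s(u, w) ∈ T.edgeSet
    swap; · exact hx _ he
    have hadj : T.Adj u w := he
    have hbr := SimpleGraph.isAcyclic_iff_forall_adj_isBridge.1 hac hadj
    rw [SimpleGraph.isBridge_iff] at hbr
    let T' := T.deleteEdges {s(u, w)}
    let S : Finset V := Finset.univ.filter fun v => T'.Reachable u v
    have hS : ∀ v, v ∈ S ↔ T'.Reachable u v := fun v => by simp [S]
    have hsum : ∑ v ∈ S, bd c x v = 0 := by simp [h0]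
    have hswap : ∑ v ∈ S, bd c x v = ∑ e : Sym2 V, ∑ v ∈ S, (if v ∈ e then eps c v • x e else 0) := by
      rw [Finset.sum_comm]
      refine Finset.sum_congr rfl fun v _ => ?_
      rw [bd_apply, Finset.smul_sum]
      refine Finset.sum_congr rfl fun e _ => ?_
      split <;> simp
    rw [hswap, Finset.sum_eq_single s(u, w)] at hsum
    · rw [Finset.sum_eq_single u] at hsum
      · rw [if_pos (by simp)] at hsum
        have := congrArg (fun y : A => eps c u • y) hsum
        simpa [smul_smul, eps_mul_self] using this
      · intro v hv hne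
        rw [if_neg]
        simp only [Sym2.mem_iff, not_or]
        exact ⟨hne, fun h => hbr (by subst h; exact (hS _).1 hv)⟩
      · intro h; exact absurd ((hS u).2 SimpleGraph.Reachable.rfl) h
    · intro e _ hne
      induction e using Sym2.ind with
      | h a b =>
        by_cases hab : s(a, b) ∈ T.edgeSet
        swap; · simp [hx _ hab]
        have hadj' : T'.Adj a b := by
          simp only [T', SimpleGraph.deleteEdges_adj, Set.mem_singleton_iff]
          exact ⟨hab, hne⟩
        have hab' : T.Adj a b := hab
        by_cases hua : T'.Reachable u a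
        · have hub : T'.Reachable u b := hua.trans hadj'.reachable
          have hfil : S.filter (fun v => v ∈ s(a, b)) = {a, b} := by
            ext v
            simp only [Finset.mem_filter, hS, Sym2.mem_iff, Finset.mem_insert, Finset.mem_singleton]
            exact ⟨fun h => h.2, fun h => ⟨by rcases h with rfl | rfl <;> assumption, h⟩⟩
          rw [← Finset.sum_filter, hfil, Finset.sum_pair hab'.ne, eps_adj (hbip a b hab'), neg_smul,
            add_neg_cancel]
        · refine Finset.sum_eq_zero fun v hv => if_neg ?_
          simp only [Sym2.mem_iff, not_or]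
          have hv' := (hS v).1 hv
          exact ⟨fun h => hua (h ▸ hv'), fun h => hua ((h ▸ hv').trans hadj'.symm.reachable)⟩
    · simp

end Groth.Agent.GraphCycle
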